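import Mathlib.RingTheory.PowerSeries.Substitution
import Mathlib.RingTheory.PowerSeries.Derivative
import Mathlib.RingTheory.PowerSeries.Inverse
import Mathlib.Algebra.CharP.Lemmas
import Mathlib.Algebra.Polynomial.AlgebraMap
import Mathlib.Algebra.CharP.Basic

/-!
# The local action of `ℤ/p` with break `n`
-/

set_option autoImplicit false

noncomputable section

namespace Groth.Agent.ASCover32

open PowerSeries

universe u

variable {k : Type u} [Field k]

/-- The substitution `t ↦ t u`. -/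
def sig (u : PowerSeries k) : PowerSeries k →ₐ[k] PowerSeries k :=
  substAlgHom (HasSubst.of_constantCoeff_zero' (show constantCoeff (X * u) = 0 by simp))

theorem sig_apply (u h : PowerSeries k) : sig u h = subst (X * u) h := by
  rw [sig, coe_substAlgHom]

theorem sig_X (u : PowerSeries k) : sig u X = X * u := substAlgHom_X _

theorem sig_C (u : PowerSeries k) (c : k) : sig u (C c) = C c := (sig u).commutes c

/-- The datum: `u(0) = 1`, `u^n (1 + t^n) = 1`, `n` prime to `p`. -/
structure Dat (p n : ℕ) (u : (PowerSeries k)ˣ) : Prop where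
  pr : p.Prime
  char : CharP k p
  pos : 0 < n
  ndvd : ¬ p ∣ n
  cc : constantCoeff (u : PowerSeries k) = 1
  eq : (u : PowerSeries k) ^ n * (1 + X ^ n) = 1

/-- The transported action `h ↦ u^e σ(h)`. -/
def T (u : (PowerSeries k)ˣ) (e : ℤ) : Module.End k (PowerSeries k) :=
  LinearMap.mulLeft k ((u ^ e : (PowerSeries k)ˣ) : PowerSeries k) ∘ₗ (sig (u : PowerSeries k)).toLinearMap

theorem T_apply (u : (PowerSeries k)ˣ) (e : ℤ) (h : PowerSeries k) :
    T u e h = ((u ^ e : (PowerSeries k)ˣ) : PowerSeries k) * sig (u : PowerSeries k) h := rfl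

/-- `T - 1`. -/
def D (u : (PowerSeries k)ˣ) (e : ℤ) : Module.End k (PowerSeries k) := T u e - 1

theorem D_apply (u : (PowerSeries k)ˣ) (e : ℤ) (h : PowerSeries k) :
    D u e h = T u e h - h := rfl

theorem T_X_pow_mul (u : (PowerSeries k)ˣ) (e : ℤ) (j : ℕ) (y : PowerSeries k) :
    T u e (X ^ j * y) = X ^ j * T u (e + j) y := by
  rw [T_apply, T_apply, map_mul, map_pow, sig_X, mul_pow, zpow_add, zpow_natCast, Units.val_mul,
    Units.val_pow_eq_pow_val]
  ring

theorem T_pow_X_pow_mul (u : (PowerSeries k)ˣ) (e : ℤ) (j i : ℕ) (y : PowerSeries k) :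
    (T u e ^ i) (X ^ j * y) = X ^ j * (T u (e + j) ^ i) y := by
  induction i with
  | zero => rfl
  | succ i ih => rw [pow_succ', pow_succ', Module.End.mul_apply, Module.End.mul_apply, ih, T_X_pow_mul]

variable {p n : ℕ} {u : (PowerSeries k)ˣ}

theorem Dat.natCast_ne_zero (h : Dat p n u) : (n : k) ≠ 0 := by
  have := h.char
  rw [Ne, CharP.cast_eq_zero_iff k p]
  exact h.ndvd

/-- A series with constant term `1` and `n`-th power congruent to `1` is congruent to `1`. -/
theorem Dat.dvd_sub_one (h : Dat p n u) {N : ℕ} {w : PowerSeries k} (hw : constantCoeff w = 1)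
    (hN : X ^ N ∣ w ^ n - 1) : X ^ N ∣ w - 1 := by
  rw [← geom_sum_mul] at hN
  have : IsUnit (∑ i ∈ Finset.range n, w ^ i) := by
    rw [isUnit_iff_constantCoeff, map_sum, isUnit_iff_ne_zero]
    simp [hw, h.natCast_ne_zero]
  exact this.dvd_mul_left.1 hN

theorem Dat.eq_one (h : Dat p n u) {w : PowerSeries k} (hw : constantCoeff w = 1)
    (hN : w ^ n = 1) : w = 1 := by
  have h0 : (∑ i ∈ Finset.range n, w ^ i) * (w - 1) = 0 := by
    rw [geom_sum_mul, hN, sub_self]
  have : IsUnit (∑ i ∈ Finset.range n, w ^ i) := by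
    rw [isUnit_iff_constantCoeff, map_sum, isUnit_iff_ne_zero]
    simp [hw, h.natCast_ne_zero]
  exact sub_eq_zero.1 (this.mul_right_eq_zero.1 h0)

theorem Dat.dvd_u_sub_one (h : Dat p n u) : X ^ n ∣ (u : PowerSeries k) - 1 :=
  h.dvd_sub_one h.cc ⟨-(u : PowerSeries k) ^ n, by linear_combination h.eq⟩

theorem Dat.dvd_zpow_sub_one (h : Dat p n u) (e : ℤ) :
    X ^ n ∣ ((u ^ e : (PowerSeries k)ˣ) : PowerSeries k) - 1 := by
  set q := Ideal.Quotient.mk (Ideal.span {(X ^ n : PowerSeries k)})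
  have hu : Units.map q.toMonoidHom u = 1 := Units.ext (by
    show q _ = 1
    rw [← map_one q, Ideal.Quotient.mk_eq_mk_iff_sub_mem, Ideal.mem_span_singleton]
    exact h.dvd_u_sub_one)
  have := congrArg Units.val (map_zpow (Units.map q.toMonoidHom) u e)
  rw [hu, one_zpow, Units.coe_map, Units.val_one] at this
  change q _ = 1 at this
  rwa [← map_one q, Ideal.Quotient.mk_eq_mk_iff_sub_mem, Ideal.mem_span_singleton] at this

theorem Dat.u_expansion (h : Dat p n u) :
    X ^ (2 * n) ∣ (u : PowerSeries k) - (1 - C ((n : k)⁻¹) * X ^ n) := by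
  obtain ⟨q, hq⟩ := h.dvd_u_sub_one
  have hC : (n : PowerSeries k) * C ((n : k)⁻¹) = 1 := by
    rw [← map_natCast (C : k →+* PowerSeries k), ← map_mul, mul_inv_cancel₀ h.natCast_ne_zero, map_one]
  -- second order expansion of the `n`-th power
  obtain ⟨r, hr⟩ : ∃ r, (1 + X ^ n * q) ^ n = 1 + (n : PowerSeries k) * (X ^ n * q) + X ^ (2 * n) * r := by
    have : ∀ m : ℕ, ∃ r, (1 + X ^ n * q) ^ m = 1 + (m : PowerSeries k) * (X ^ n * q) + X ^ (2 * n) * r := by
      intro m
      induction m with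
      | zero => exact ⟨0, by simp⟩
      | succ m ih =>
        obtain ⟨r, hr⟩ := ih
        exact ⟨r * (1 + X ^ n * q) + (m : PowerSeries k) * q ^ 2, by
          rw [pow_succ, hr, two_mul, pow_add]; push_cast; ring⟩
    exact this n
  have e := h.eq
  rw [show (u : PowerSeries k) = 1 + X ^ n * q by rw [← hq]; ring, hr] at e
  refine ⟨-C ((n : k)⁻¹) * (r * (1 + X ^ n) + (n : PowerSeries k) * q), ?_⟩
  rw [show (u : PowerSeries k) = 1 + X ^ n * q by rw [← hq]; ring, two_mul, pow_add]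
  rw [two_mul, pow_add] at e
  linear_combination C ((n : k)⁻¹) * e - X ^ n * q * hC

/-- The expansion of `u ^ e` to first order. -/
theorem Dat.expansion (h : Dat p n u) (e : ℤ) :
    X ^ (2 * n) ∣ ((u ^ e : (PowerSeries k)ˣ) : PowerSeries k) - (1 - C ((e : k) / n) * X ^ n) := by
  obtain ⟨q, hq⟩ := h.u_expansion
  have step : ∀ e : ℤ, ∀ a : PowerSeries k,
      (X ^ (2 * n) ∣ a - (1 - C ((e : k) / n) * X ^ n) ↔
        X ^ (2 * n) ∣ a * (u : PowerSeries k) - (1 - C (((e + 1 : ℤ) : k) / n) * X ^ n)) := by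
    intro e a
    have key : a * (u : PowerSeries k) - (1 - C (((e + 1 : ℤ) : k) / n) * X ^ n) =
        (a - (1 - C ((e : k) / n) * X ^ n)) * (u : PowerSeries k) +
          X ^ (2 * n) * ((1 - C ((e : k) / n) * X ^ n) * q + C ((e : k) / n) * C ((n : k)⁻¹)) := by
      rw [sub_eq_iff_eq_add.1 hq,
        show ((e + 1 : ℤ) : k) / n = (e : k) / n + (n : k)⁻¹ by push_cast; rw [add_div, one_div],
        map_add, two_mul, pow_add]
      ring
    rw [key, dvd_add_left (dvd_mul_right _ _), u.isUnit.dvd_mul_right]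
  induction e using Int.induction_on with
  | zero => simp
  | succ i ih =>
    rw [zpow_add_one, Units.val_mul]
    exact (step _ _).1 ih
  | pred i ih =>
    refine (step _ _).2 ?_
    rw [← Units.val_mul, ← zpow_add_one, sub_add_cancel]
    exact ih

theorem Dat.coeff_zpow (h : Dat p n u) (e : ℤ) {j : ℕ} (hj : j < 2 * n) :
    coeff j ((u ^ e : (PowerSeries k)ˣ) : PowerSeries k) =
      if j = 0 then 1 else if j = n then -((e : k) / n) else 0 := by
  have := X_pow_dvd_iff.1 (h.expansion e) j hj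
  rw [map_sub, sub_eq_zero, map_sub, coeff_C_mul, coeff_X_pow, coeff_one] at this
  rw [this]
  have := h.pos
  by_cases h0 : j = 0
  · subst h0; simp [h.pos.ne]
  · by_cases hn : j = n
    · subst hn; simp [h.pos.ne']
    · simp [h0, hn]

theorem Dat.dvd_sig_sub (h : Dat p n u) : ∀ N ≤ n + 1, ∀ y : PowerSeries k,
    X ^ N ∣ sig (u : PowerSeries k) y - y := by
  intro N
  induction N with
  | zero => simp
  | succ N ih =>
    intro hN y
    obtain ⟨z, hz⟩ : X ∣ y - C (constantCoeff y) := X_dvd_iff.2 (by simp)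
    rw [sub_eq_iff_eq_add.1 hz, map_add, map_mul, sig_X, sig_C,
      show X * (u : PowerSeries k) * sig (u : PowerSeries k) z + C (constantCoeff y) -
          (X * z + C (constantCoeff y)) =
        X * (((u : PowerSeries k) - 1) * sig (u : PowerSeries k) z +
          (sig (u : PowerSeries k) z - z)) by ring,
      pow_succ']
    refine mul_dvd_mul_left _ (dvd_add (Dvd.dvd.mul_right ?_ _) (ih (by omega) z))
    exact (pow_dvd_pow _ (by omega)).trans h.dvd_u_sub_one

/-- `T - 1` raises the order by `n`. -/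
theorem Dat.D_lead (h : Dat p n u) (e : ℤ) {j : ℕ} {x : PowerSeries k} (hx : X ^ j ∣ x) :
    X ^ (j + n) ∣ D u e x ∧ coeff (j + n) (D u e x) = -(((e + j : ℤ) : k) / n) * coeff j x := by
  obtain ⟨y, rfl⟩ := hx
  have e1 : D u e (X ^ j * y) = X ^ j * D u (e + j) y := by
    rw [D_apply, D_apply, T_X_pow_mul, mul_sub]
  have e2 : D u (e + j) y = ((u ^ (e + j) : (PowerSeries k)ˣ) : PowerSeries k) *
      (sig (u : PowerSeries k) y - y) +
      (((u ^ (e + j) : (PowerSeries k)ˣ) : PowerSeries k) - 1) * y := by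
    rw [D_apply, T_apply]; ring
  have hd : X ^ n ∣ D u (e + j) y := by
    rw [e2]
    exact dvd_add ((h.dvd_sig_sub n (Nat.le_succ n) y).mul_left _) ((h.dvd_zpow_sub_one _).mul_right _)
  refine ⟨by rw [e1, pow_add]; exact mul_dvd_mul_left _ hd, ?_⟩
  rw [e1, add_comm j n, coeff_X_pow_mul, e2, map_add,
    X_pow_dvd_iff.1 ((h.dvd_sig_sub (n + 1) le_rfl y).mul_left _) n (Nat.lt_succ_self n), zero_add,
    show coeff j (X ^ j * y) = constantCoeff y by
      rw [coeff_X_pow_mul', if_pos le_rfl, Nat.sub_self, coeff_zero_eq_constantCoeff]]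
  obtain ⟨z, hz⟩ := h.dvd_zpow_sub_one (e + j)
  have hz0 : coeff n (((u ^ (e + j) : (PowerSeries k)ˣ) : PowerSeries k) - 1) = constantCoeff z := by
    rw [hz, coeff_X_pow_mul', if_pos le_rfl, Nat.sub_self, coeff_zero_eq_constantCoeff]
  rw [hz, mul_assoc, coeff_X_pow_mul', if_pos le_rfl, Nat.sub_self, coeff_zero_eq_constantCoeff,
    map_mul, ← hz0, map_sub, h.coeff_zpow _ (by have := h.pos; omega), coeff_one,
    if_neg h.pos.ne', if_pos rfl, if_neg h.pos.ne', sub_zero]

theorem Dat.D_pow_lead (h : Dat p n u) (e : ℤ) {j : ℕ} {x : PowerSeries k} (hx : X ^ j ∣ x) :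
    ∀ r : ℕ, X ^ (j + r * n) ∣ (D u e ^ r) x ∧ coeff (j + r * n) ((D u e ^ r) x) =
      (∏ i ∈ Finset.range r, -(((e + j + i * n : ℤ) : k) / n)) * coeff j x := by
  intro r
  induction r with
  | zero => simpa using hx
  | succ r ih =>
    obtain ⟨a, b⟩ := h.D_lead e ih.1
    rw [pow_succ', Module.End.mul_apply, show j + (r + 1) * n = j + r * n + n by ring]
    refine ⟨a, ?_⟩
    rw [b, ih.2, Finset.prod_range_succ]
    push_cast
    ring

theorem sub_one_pow_eq_sum {R : Type*} [Ring R] [Algebra k R] (hp : p.Prime) [CharP k p] (t : R) :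
    (t - 1) ^ (p - 1) = ∑ i ∈ Finset.range p, t ^ i := by
  have : Fact p.Prime := ⟨hp⟩
  have key : ((Polynomial.X - 1 : Polynomial k)) ^ (p - 1) =
      ∑ i ∈ Finset.range p, (Polynomial.X : Polynomial k) ^ i := by
    refine mul_right_cancel₀ (b := (Polynomial.X - 1 : Polynomial k)) ?_ ?_
    · rw [← map_one Polynomial.C]; exact Polynomial.X_sub_C_ne_zero 1
    · rw [← pow_succ, Nat.sub_add_cancel hp.one_le, geom_sum_mul, sub_pow_char, one_pow]
  simpa using congrArg (Polynomial.aeval t) key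

theorem Dat.D_pow_eq_sum (h : Dat p n u) (e : ℤ) :
    D u e ^ (p - 1) = ∑ i ∈ Finset.range p, T u e ^ i := by
  have := h.char
  exact sub_one_pow_eq_sum (k := k) h.pr (T u e)

/-- The leading term of the norm. -/
theorem Dat.norm_lead (h : Dat p n u) (e : ℤ) {j : ℕ} {x : PowerSeries k} (hx : X ^ j ∣ x)
    (hN : (∑ i ∈ Finset.range p, T u e ^ i) x = 0) (hd : (p : ℤ) ∣ e + j - n) : coeff j x = 0 := by
  have := h.char
  obtain ⟨-, hc⟩ := h.D_pow_lead e hx (p - 1)
  rw [h.D_pow_eq_sum, hN, map_zero, eq_comm, mul_eq_zero] at hc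
  refine hc.resolve_left (Finset.prod_ne_zero_iff.2 fun i hi => ?_)
  rw [Finset.mem_range] at hi
  refine neg_ne_zero.2 (div_ne_zero ?_ h.natCast_ne_zero)
  rw [Ne, CharP.intCast_eq_zero_iff k p]
  intro hdvd
  have h1 : (p : ℤ) ∣ (((i + 1) * n : ℕ) : ℤ) := by
    have := dvd_sub hdvd hd
    rwa [show (e + j + i * n : ℤ) - (e + j - n) = (((i + 1) * n : ℕ) : ℤ) by push_cast; ring] at this
  rcases h.pr.dvd_mul.1 (Int.natCast_dvd_natCast.1 h1) with h2 | h2
  · have := Nat.le_of_dvd (Nat.succ_pos i) h2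
    omega
  · exact h.ndvd h2

/-- Above degree `n` the kernel of the norm is the image of `T - 1`. -/
theorem Dat.exists_D_eq (h : Dat p n u) (e : ℤ) (hT : T u e ^ p = 1) {x : PowerSeries k}
    (hx : X ^ n ∣ x) (hN : (∑ i ∈ Finset.range p, T u e ^ i) x = 0) : ∃ y, D u e y = x := by
  have hchar := h.char
  set N := ∑ i ∈ Finset.range p, T u e ^ i with hNdef
  have hND : ∀ z, N (D u e z) = 0 := fun z => by
    rw [hNdef, ← Module.End.mul_apply, D, geom_sum_mul, hT, sub_self, LinearMap.zero_apply]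
  have step : ∀ (i : ℕ) (y : PowerSeries k), X ^ (i + n) ∣ x - D u e y →
      ∃ y', X ^ i ∣ y' - y ∧ X ^ (i + 1 + n) ∣ x - D u e y' := by
    intro i y hy
    have hNz : N (x - D u e y) = 0 := by rw [map_sub, hN, hND, sub_zero]
    set c := coeff (i + n) (x - D u e y) with hc
    suffices ∃ z, X ^ i ∣ z ∧ coeff (i + n) (D u e z) = c by
      obtain ⟨z, hz, hzc⟩ := this
      refine ⟨y + z, ⟨hz.choose, by rw [add_sub_cancel_left]; exact hz.choose_spec⟩, ?_⟩
      rw [map_add, ← sub_sub, X_pow_dvd_iff]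
      intro m hm
      rw [map_sub]
      rcases Nat.lt_or_ge m (i + n) with hlt | hge
      · rw [X_pow_dvd_iff.1 hy m hlt, X_pow_dvd_iff.1 (h.D_lead e hz).1 m hlt, sub_zero]
      · rw [show m = i + n by omega, ← hc, hzc, sub_self]
    by_cases hd : (p : ℤ) ∣ e + i
    · refine ⟨0, dvd_zero _, ?_⟩
      rw [map_zero, map_zero, hc, h.norm_lead e hy hNz]
      push_cast
      rwa [add_sub_assoc, add_sub_cancel_right]
    · refine ⟨C (c * (-(((e + i : ℤ) : k) / n))⁻¹) * X ^ i, dvd_mul_left _ _, ?_⟩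
      rw [(h.D_lead e (j := i) (dvd_mul_left _ _)).2, coeff_C_mul, coeff_X_pow, if_pos rfl, mul_one,
        mul_comm c, mul_inv_cancel_left₀]
      exact neg_ne_zero.2 (div_ne_zero (fun h0 => hd ((CharP.intCast_eq_zero_iff k p _).1 h0))
        h.natCast_ne_zero)
  choose f hf using step
  let ys : ∀ i : ℕ, {y : PowerSeries k // X ^ (i + n) ∣ x - D u e y} := fun i =>
    Nat.rec (motive := fun i => {y : PowerSeries k // X ^ (i + n) ∣ x - D u e y})
      ⟨0, by simpa using hx⟩ (fun i z => ⟨f i z.1 z.2, (hf i z.1 z.2).2⟩) i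
  have hstep : ∀ i, X ^ i ∣ (ys (i + 1)).1 - (ys i).1 := fun i => (hf i (ys i).1 (ys i).2).1
  have hmono : ∀ i l, X ^ i ∣ (ys (i + l)).1 - (ys i).1 := fun i l => by
    induction l with
    | zero => simp
    | succ l ih =>
      have := dvd_add ((pow_dvd_pow X (Nat.le_add_right i l)).trans (hstep (i + l))) ih
      rwa [sub_add_sub_cancel] at this
  refine ⟨PowerSeries.mk fun i => coeff i (ys (i + 1)).1, ?_⟩
  set y := PowerSeries.mk fun i => coeff i (ys (i + 1)).1
  have hy : ∀ i, X ^ i ∣ y - (ys i).1 := fun i => X_pow_dvd_iff.2 fun m hm => by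
    obtain ⟨l, rfl⟩ := Nat.exists_eq_add_of_le hm
    have := X_pow_dvd_iff.1 (hmono (m + 1) l) m (Nat.lt_succ_self m)
    rw [map_sub, sub_eq_zero] at this
    rw [map_sub, coeff_mk, this, sub_self]
  rw [eq_comm, ← sub_eq_zero]
  refine PowerSeries.ext fun m => ?_
  rw [map_zero]
  refine X_pow_dvd_iff.1 (?_ : X ^ (m + 1) ∣ _) m (Nat.lt_succ_self m)
  rw [show x - D u e y = (x - D u e (ys (m + 1)).1) - D u e (y - (ys (m + 1)).1) by
    rw [map_sub]; ring]
  refine dvd_sub ?_ ((pow_dvd_pow X (Nat.le_add_right (m + 1) n)).trans (h.D_lead e (hy (m + 1))).1)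
  have := (ys (m + 1)).2
  exact (pow_dvd_pow X (Nat.le_add_right (m + 1) n)).trans this

/-! ### The iterates -/

/-- `σ^i(t)/t`. -/
def ui (u : (PowerSeries k)ˣ) : ℕ → (PowerSeries k)ˣ
  | 0 => 1
  | i + 1 => u * Units.map (sig (u : PowerSeries k) : PowerSeries k →* PowerSeries k) (ui u i)

theorem T_pow_one (e : ℤ) (i : ℕ) :
    (T u e ^ i) 1 = (((ui u i) ^ e : (PowerSeries k)ˣ) : PowerSeries k) := by
  induction i with
  | zero => simp [ui]
  | succ i ih =>
    rw [pow_succ', Module.End.mul_apply, ih, T_apply, ui, mul_zpow, ← map_zpow]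
    rfl

theorem Dat.ui_spec (h : Dat p n u) (i : ℕ) :
    (ui u i : PowerSeries k) ^ n * (1 + (i : PowerSeries k) * X ^ n) = 1 ∧
      constantCoeff (ui u i : PowerSeries k) = 1 := by
  induction i with
  | zero => simp [ui]
  | succ i ih =>
    refine ⟨?_, ?_⟩
    · have e := congrArg (sig (u : PowerSeries k)) ih.1
      rw [map_mul, map_pow, map_add, map_mul, map_natCast, map_pow, sig_X, map_one] at e
      have e' := h.eq
      rw [ui, Units.val_mul, Units.coe_map, MonoidHom.coe_coe, mul_pow]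
      push_cast
      linear_combination e + (sig (u : PowerSeries k) (ui u i : PowerSeries k)) ^ n * e'
    · rw [ui, Units.val_mul, map_mul, h.cc, one_mul, Units.coe_map, MonoidHom.coe_coe]
      obtain ⟨z, hz⟩ := h.dvd_sig_sub 1 (Nat.succ_pos n) (ui u i : PowerSeries k)
      have := congrArg constantCoeff hz
      rw [map_sub, map_mul, map_pow, constantCoeff_X, pow_one, zero_mul, sub_eq_zero, ih.2] at this
      exact this

theorem Dat.ui_p (h : Dat p n u) : ui u p = 1 := by
  have := h.char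
  have e := (h.ui_spec p).1
  rw [← map_natCast (C : k →+* PowerSeries k), CharP.cast_eq_zero, map_zero, zero_mul, add_zero,
    mul_one] at e
  exact Units.ext (h.eq_one (h.ui_spec p).2 e)

theorem Dat.dvd_ui_sub_one (h : Dat p n u) (i : ℕ) : X ^ n ∣ (ui u i : PowerSeries k) - 1 :=
  h.dvd_sub_one (h.ui_spec i).2
    ⟨-((ui u i : PowerSeries k) ^ n * (i : PowerSeries k)), by linear_combination (h.ui_spec i).1⟩

/-- The invariant unit: `t^p v` is the norm of `t`. -/
def vv (p : ℕ) (u : (PowerSeries k)ˣ) : (PowerSeries k)ˣ := ∏ i ∈ Finset.range p, ui u i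

theorem Dat.u_pow_mul_map_vv (h : Dat p n u) :
    u ^ p * Units.map (sig (u : PowerSeries k) : PowerSeries k →* PowerSeries k) (vv p u) = vv p u := by
  rw [vv, map_prod]
  nth_rewrite 1 [← Finset.card_range p]
  rw [← Finset.prod_const, ← Finset.prod_mul_distrib]
  show ∏ i ∈ Finset.range p, ui u (i + 1) = _
  have e := Finset.prod_range_succ' (fun i => ui u i) p
  rw [Finset.prod_range_succ, h.ui_p, mul_one] at e
  rw [e]
  simp [ui]

theorem Dat.exists_fixed (h : Dat p n u) (l : ℤ) :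
    ∃ z : PowerSeries k, T u (p * l) z = z ∧ X ^ n ∣ z - 1 := by
  refine ⟨((vv p u ^ l : (PowerSeries k)ˣ) : PowerSeries k), ?_, ?_⟩
  · rw [T_apply]
    show ((u ^ ((p : ℤ) * l) : (PowerSeries k)ˣ) : PowerSeries k) * ((Units.map
      (sig (u : PowerSeries k) : PowerSeries k →* PowerSeries k) (vv p u ^ l) :
        (PowerSeries k)ˣ) : PowerSeries k) = _
    rw [← Units.val_mul, map_zpow, zpow_mul, zpow_natCast, ← mul_zpow, h.u_pow_mul_map_vv]
  · set q := Ideal.Quotient.mk (Ideal.span {(X ^ n : PowerSeries k)})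
    have hu : ∀ i, Units.map q.toMonoidHom (ui u i) = 1 := fun i => Units.ext (by
      show q _ = 1
      rw [← map_one q, Ideal.Quotient.mk_eq_mk_iff_sub_mem, Ideal.mem_span_singleton]
      exact h.dvd_ui_sub_one i)
    have := congrArg Units.val (map_zpow (Units.map q.toMonoidHom) (vv p u) l)
    rw [show Units.map q.toMonoidHom (vv p u) = 1 by
      rw [vv, map_prod]; exact Finset.prod_eq_one fun i _ => hu i, one_zpow, Units.coe_map,
      Units.val_one] at this
    change q _ = 1 at this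
    rwa [← map_one q, Ideal.Quotient.mk_eq_mk_iff_sub_mem, Ideal.mem_span_singleton] at this

/-! ### The classes `c_m` -/

/-- `(u^(a-m) - 1)/t^m`. -/
theorem Dat.exists_c (h : Dat p n u) (a : ℤ) {m : ℕ} (hm : m ≤ n) :
    ∃ c : PowerSeries k, X ^ m * c = ((u ^ (a - m) : (PowerSeries k)ˣ) : PowerSeries k) - 1 := by
  obtain ⟨c, hc⟩ := (pow_dvd_pow X hm).trans (h.dvd_zpow_sub_one (a - m))
  exact ⟨c, hc.symm⟩

theorem X_pow_mul_eq_D_one (a : ℤ) (m : ℕ) {c : PowerSeries k}
    (hc : X ^ m * c = ((u ^ (a - m) : (PowerSeries k)ˣ) : PowerSeries k) - 1) :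
    X ^ m * c = D u (a - m) 1 := by
  rw [hc, D_apply, T_apply, map_one, mul_one]

theorem Dat.norm_c (h : Dat p n u) (a : ℤ) (m : ℕ) {c : PowerSeries k}
    (hc : X ^ m * c = ((u ^ (a - m) : (PowerSeries k)ˣ) : PowerSeries k) - 1) :
    (∑ i ∈ Finset.range p, T u a ^ i) c = 0 := by
  refine mul_left_cancel₀ (pow_ne_zero m X_ne_zero) ?_
  have key : ∀ i, X ^ m * (T u a ^ i) c =
      (T u (a - m) ^ (i + 1)) 1 - (T u (a - m) ^ i) 1 := fun i => by
    have := T_pow_X_pow_mul u (a - m) m i c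
    rw [sub_add_cancel] at this
    rw [← this, X_pow_mul_eq_D_one a m hc, D_apply, map_sub, pow_succ, Module.End.mul_apply]
  rw [LinearMap.sum_apply, Finset.mul_sum, Finset.sum_congr rfl fun i _ => key i,
    Finset.sum_range_sub (fun i => (T u (a - m) ^ i) 1), T_pow_one, h.ui_p]
  simp

theorem Dat.exists_primitive (h : Dat p n u) (a : ℤ) {m : ℕ} (hm : m ≤ n) (hd : (p : ℤ) ∣ a - m)
    {c : PowerSeries k}
    (hc : X ^ m * c = ((u ^ (a - m) : (PowerSeries k)ˣ) : PowerSeries k) - 1) :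
    ∃ y, D u a y = c := by
  obtain ⟨l, hl⟩ := hd
  obtain ⟨z, hz, hz1⟩ := h.exists_fixed l
  obtain ⟨y, hy⟩ := (pow_dvd_pow X hm).trans hz1
  refine ⟨-y, mul_left_cancel₀ (pow_ne_zero m X_ne_zero) ?_⟩
  have e := T_X_pow_mul u (a - m) m (-y)
  rw [sub_add_cancel, mul_neg, ← hy, neg_sub, map_sub] at e
  rw [D_apply, mul_sub, ← e, mul_neg, ← hy, X_pow_mul_eq_D_one a m hc, D_apply, hl, hz]
  ring

theorem Dat.coeff_c (h : Dat p n u) (a : ℤ) {m : ℕ} {c : PowerSeries k}
    (hc : X ^ m * c = ((u ^ (a - m) : (PowerSeries k)ˣ) : PowerSeries k) - 1) {j : ℕ}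
    (hm : 1 ≤ m) (hmn : m ≤ n) (hj : j < n) :
    coeff j c = if j + m = n then -(((a - m : ℤ) : k) / n) else 0 := by
  have e := congrArg (coeff (j + m)) hc
  rw [coeff_X_pow_mul, map_sub, h.coeff_zpow _ (by omega), coeff_one, if_neg (by omega),
    if_neg (show j + m ≠ 0 by omega), sub_zero] at e
  exact e

/-- The indices of the basis. -/
def idx (p n : ℕ) (a : ℤ) : Finset ℕ :=
  (Finset.Icc 1 n).filter (fun m : ℕ => ¬ (p : ℤ) ∣ a - (m : ℤ))

theorem Dat.indep (h : Dat p n u) (a : ℤ) (c : ℕ → PowerSeries k)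
    (hc : ∀ m : ℕ, 1 ≤ m → m ≤ n →
      X ^ m * c m = ((u ^ (a - m) : (PowerSeries k)ˣ) : PowerSeries k) - 1)
    (coef : ℕ → k) (y : PowerSeries k) (hy : D u a y = ∑ m ∈ idx p n a, coef m • c m) :
    ∀ m ∈ idx p n a, coef m = 0 := by
  classical
  have := h.char
  intro m hm
  have hm' := hm
  rw [idx, Finset.mem_filter, Finset.mem_Icc] at hm'
  have e := congrArg (coeff (n - m)) hy
  have hlow := X_pow_dvd_iff.1 (h.D_lead a (j := 0) (one_dvd y)).1 (n - m) (by omega)
  rw [hlow, map_sum, Finset.sum_eq_single m] at e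
  · rw [map_smul, h.coeff_c a (hc m hm'.1.1 hm'.1.2) hm'.1.1 hm'.1.2 (by omega), if_pos (by omega),
      smul_eq_mul, eq_comm, mul_eq_zero, neg_eq_zero] at e
    refine e.resolve_right (div_ne_zero (fun h0 => ?_) h.natCast_ne_zero)
    exact hm'.2 ((CharP.intCast_eq_zero_iff k p _).1 h0)
  · intro m' hm'' hne
    rw [idx, Finset.mem_filter, Finset.mem_Icc] at hm''
    rw [map_smul, h.coeff_c a (hc m' hm''.1.1 hm''.1.2) hm''.1.1 hm''.1.2 (by omega),
      if_neg (by omega), smul_zero]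
  · exact fun h' => absurd hm h'

theorem Dat.spanning (h : Dat p n u) (a : ℤ) (hT : T u a ^ p = 1) (c : ℕ → PowerSeries k)
    (hc : ∀ m : ℕ, 1 ≤ m → m ≤ n →
      X ^ m * c m = ((u ^ (a - m) : (PowerSeries k)ˣ) : PowerSeries k) - 1)
    {x : PowerSeries k} (hN : (∑ i ∈ Finset.range p, T u a ^ i) x = 0) :
    ∃ (coef : ℕ → k) (y : PowerSeries k), D u a y = x - ∑ m ∈ idx p n a, coef m • c m := by
  classical
  have := h.char
  set coef : ℕ → k := fun m => coeff (n - m) x * (-(((a - m : ℤ) : k) / n))⁻¹ with hcoef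
  refine ⟨coef, h.exists_D_eq a hT ?_ ?_⟩
  · rw [X_pow_dvd_iff]
    intro j
    induction j using Nat.strong_induction_on with
    | _ j ih =>
      intro hj
      by_cases hd : (p : ℤ) ∣ a - ((n - j : ℕ) : ℤ)
      · refine h.norm_lead a (X_pow_dvd_iff.2 fun i hi => ih i hi (by omega)) ?_ ?_
        · rw [map_sub, hN, map_sum, Finset.sum_eq_zero, sub_zero]
          intro m hm
          rw [idx, Finset.mem_filter, Finset.mem_Icc] at hm
          rw [map_smul, h.norm_c a m (hc m hm.1.1 hm.1.2), smul_zero]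
        · rwa [Nat.cast_sub (by omega), sub_sub_eq_add_sub] at hd
      · have hmem : n - j ∈ idx p n a := by
          rw [idx, Finset.mem_filter, Finset.mem_Icc]; exact ⟨⟨by omega, by omega⟩, hd⟩
        rw [map_sub, map_sum, Finset.sum_eq_single (n - j), map_smul,
          h.coeff_c a (hc _ (by omega) (by omega)) (by omega) (by omega) hj, if_pos (by omega),
          hcoef, smul_eq_mul]
        beta_reduce
        rw [show n - (n - j) = j by omega, mul_assoc, inv_mul_cancel₀, mul_one,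
          sub_self]
        · exact neg_ne_zero.2 (div_ne_zero
            (fun h0 => hd ((CharP.intCast_eq_zero_iff k p _).1 h0)) h.natCast_ne_zero)
        · intro m hm hne
          rw [idx, Finset.mem_filter, Finset.mem_Icc] at hm
          rw [map_smul, h.coeff_c a (hc m hm.1.1 hm.1.2) hm.1.1 hm.1.2 hj, if_neg (by omega),
            smul_zero]
        · exact fun h' => absurd hmem h'
  · rw [map_sub, hN, map_sum, Finset.sum_eq_zero, sub_zero]
    intro m hm
    rw [idx, Finset.mem_filter, Finset.mem_Icc] at hm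
    rw [map_smul, h.norm_c a m (hc m hm.1.1 hm.1.2), smul_zero]

end Groth.Agent.ASCover32
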