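import Groth.Agent.ASCover32.Basic
import Groth.Agent.GalH1.Cyclic
import Mathlib.RepresentationTheory.Homological.GroupCohomology.LowDegree
import Mathlib.RepresentationTheory.Homological.GroupCohomology.Functoriality

/-!
# First cohomology of a group of order `p` and the local cover
-/

set_option autoImplicit false

noncomputable section

namespace Groth.Agent.ASCover32

open groupCohomology

universe u

section Cyclic

variable {k G V : Type u} [Field k] [Group G] [AddCommGroup V] [Module k V]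
  (ρ : Representation k G V) {g : G}

theorem cocycle_pow (f : cocycles₁ (Rep.of ρ)) (j : ℕ) :
    (f : G → V) (g ^ j) = GalH1.powSum ρ g ((f : G → V) g) j := by
  induction j with
  | zero => rw [pow_zero]; exact cocycles₁_map_one f
  | succ j ih =>
    have e := (mem_cocycles₁_iff (A := Rep.of ρ) (f : G → V)).1 f.2 (g ^ j) g
    rw [← pow_succ] at e
    rw [GalH1.powSum, Finset.sum_range_succ, ← GalH1.powSum, ← ih, e]
    exact add_comm _ _

variable [Finite G] (hg : ∀ x : G, x ∈ Subgroup.zpowers g)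

include hg

theorem cocycle_ext {f f' : cocycles₁ (Rep.of ρ)} (h : (f : G → V) g = (f' : G → V) g) : f = f' := by
  refine cocycles₁_ext fun x => ?_
  obtain ⟨j, rfl⟩ := GalH1.exists_pow_eq hg x
  show (f : G → V) _ = (f' : G → V) _
  rw [cocycle_pow ρ f, cocycle_pow ρ f', h]

theorem cocycle_norm (f : cocycles₁ (Rep.of ρ)) :
    (∑ i ∈ Finset.range (Nat.card G), ρ g ^ i) ((f : G → V) g) = 0 := by
  have e := cocycle_pow ρ f (g := g) (Nat.card G)
  rw [← GalH1.orderOf_eq_card hg, pow_orderOf_eq_one,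
    show (f : G → V) 1 = 0 from cocycles₁_map_one f] at e
  rw [LinearMap.sum_apply, ← GalH1.orderOf_eq_card hg]
  rw [e, GalH1.powSum]
  exact Finset.sum_congr rfl fun i _ => by rw [map_pow]

theorem exists_cocycle {x : V} (hx : (∑ i ∈ Finset.range (Nat.card G), ρ g ^ i) x = 0) :
    ∃ f : cocycles₁ (Rep.of ρ), (f : G → V) g = x := by
  set N := Nat.card G with hN
  have hord : orderOf g = N := GalH1.orderOf_eq_card hg
  have hNv : GalH1.powSum ρ g x N = 0 := by
    rw [← hx, LinearMap.sum_apply, GalH1.powSum]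
    exact Finset.sum_congr rfl fun i _ => by rw [map_pow]
  have hper : ∀ a b : ℕ, g ^ a = g ^ b → GalH1.powSum ρ g x a = GalH1.powSum ρ g x b := by
    intro a b hab
    rw [pow_eq_pow_iff_modEq, hord] at hab
    have hstep : ∀ q r : ℕ, GalH1.powSum ρ g x (q * N + r) = GalH1.powSum ρ g x r := fun q r => by
      induction q with
      | zero => rw [zero_mul, zero_add]
      | succ q ih =>
        rw [Nat.succ_mul, Nat.add_comm (q * N) N, Nat.add_assoc, GalH1.powSum_add, hNv, zero_add, ih,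
          ← hord, pow_orderOf_eq_one, map_one]
        rfl
    rw [← Nat.div_add_mod a N, ← Nat.div_add_mod b N, mul_comm N, mul_comm N, hstep, hstep, hab]
  choose J hJ using GalH1.exists_pow_eq hg
  refine ⟨⟨fun y => GalH1.powSum ρ g x (J y), (mem_cocycles₁_iff (A := Rep.of ρ) _).2 fun y z => ?_⟩, ?_⟩
  · show GalH1.powSum ρ g x (J (y * z)) = ρ y (GalH1.powSum ρ g x (J z)) + GalH1.powSum ρ g x (J y)
    rw [hper (J (y * z)) (J y + J z) (by rw [pow_add, hJ, hJ, hJ]), GalH1.powSum_add, hJ, add_comm]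
  · show GalH1.powSum ρ g x (J g) = x
    rw [hper (J g) 1 (by rw [hJ, pow_one])]
    simp [GalH1.powSum]

theorem H1π_eq_zero (f : cocycles₁ (Rep.of ρ)) :
    H1π (Rep.of ρ) f = 0 ↔ ∃ h : V, ρ g h - h = (f : G → V) g := by
  rw [H1π_eq_zero_iff]
  constructor
  · rintro ⟨h, hh⟩
    exact ⟨h, congrFun hh g⟩
  · rintro ⟨h, hh⟩
    have hmem : (fun y => ρ y h - h) ∈ coboundaries₁ (Rep.of ρ) := ⟨h, rfl⟩
    have e : f = ⟨fun y => ρ y h - h, coboundaries₁_le_cocycles₁ _ hmem⟩ := cocycle_ext ρ hg hh.symm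
    rw [e]
    exact hmem

/-- A basis from representatives of the classes. -/
theorem exists_basis {ι : Type} [Fintype ι] (x : ι → V)
    (hx : ∀ i, (∑ l ∈ Finset.range (Nat.card G), ρ g ^ l) (x i) = 0)
    (hind : ∀ (coef : ι → k) (h : V), ρ g h - h = ∑ i, coef i • x i → ∀ i, coef i = 0)
    (hspan : ∀ y, (∑ l ∈ Finset.range (Nat.card G), ρ g ^ l) y = 0 →
      ∃ (coef : ι → k) (h : V), ρ g h - h = y - ∑ i, coef i • x i) :
    ∃ (f : ι → cocycles₁ (Rep.of ρ)) (b : Module.Basis ι k (H1 (Rep.of ρ))),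
      (∀ i, (f i : G → V) g = x i) ∧ ∀ i, b i = H1π (Rep.of ρ) (f i) := by
  choose f hf using fun i => exists_cocycle ρ hg (hx i)
  have hsum : ∀ coef : ι → k, ((∑ i, coef i • f i : cocycles₁ (Rep.of ρ)) : G → V) g =
      ∑ i, coef i • x i := fun coef => by
    rw [show ((∑ i, coef i • f i : cocycles₁ (Rep.of ρ)) : G → V) =
        ∑ i, coef i • (f i : G → V) from
          (map_sum (cocycles₁ (Rep.of ρ)).subtype _ _).trans
            (Finset.sum_congr rfl fun i _ => map_smul (cocycles₁ (Rep.of ρ)).subtype _ _)]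
    rw [Finset.sum_apply]
    exact Finset.sum_congr rfl fun i _ => by rw [Pi.smul_apply, hf]
  have hli : LinearIndependent k fun i => H1π (Rep.of ρ) (f i) := by
    rw [Fintype.linearIndependent_iff]
    intro coef h0
    simp only [← map_smul, ← map_sum] at h0
    obtain ⟨h, hh⟩ := (H1π_eq_zero ρ hg _).1 h0
    exact hind coef h (hh.trans (hsum coef))
  have hsp : ⊤ ≤ Submodule.span k (Set.range fun i => H1π (Rep.of ρ) (f i)) := by
    intro z _
    induction z using H1_induction_on with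
    | h w =>
      obtain ⟨coef, h, hh⟩ := hspan _ (cocycle_norm ρ hg w)
      have e : H1π (Rep.of ρ) (w - ∑ i, coef i • f i) = 0 :=
        (H1π_eq_zero ρ hg _).2 ⟨h, hh.trans (by rw [← hsum coef]; rfl)⟩
      rw [map_sub, sub_eq_zero, map_sum] at e
      rw [e]
      refine Submodule.sum_mem _ fun i _ => ?_
      rw [map_smul]
      exact Submodule.smul_mem _ _ (Submodule.subset_span ⟨i, rfl⟩)
  exact ⟨f, Module.Basis.mk hli hsp, hf, fun i => by rw [Module.Basis.mk_apply]⟩

end Cyclic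

variable {k : Type u} [Field k] {G : Type u} [Group G] [Finite G] {g : G}

omit [Finite G] in
theorem rho_eq_T {u : (PowerSeries k)ˣ} (ρ : Representation k G (PowerSeries k)) (a : ℤ)
    (hρ : ∀ h : PowerSeries k, ρ g h = ((u ^ a : (PowerSeries k)ˣ) : PowerSeries k) *
      PowerSeries.subst (PowerSeries.X * (u : PowerSeries k)) h) : ρ g = T u a :=
  LinearMap.ext fun h => by rw [hρ, T_apply, sig_apply]

theorem Dat.exists_basis_H1 {p n : ℕ} {u : (PowerSeries k)ˣ} (hd : Dat p n u)
    (hG : Nat.card G = p) (hg : ∀ x : G, x ∈ Subgroup.zpowers g)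
    (ρ : Representation k G (PowerSeries k)) (a : ℤ) (hρ : ρ g = T u a) :
    ∃ (c : ℕ → PowerSeries k) (f : {m // m ∈ idx p n a} → cocycles₁ (Rep.of ρ))
      (b : Module.Basis {m // m ∈ idx p n a} k (H1 (Rep.of ρ))),
      (∀ m : ℕ, 1 ≤ m → m ≤ n → PowerSeries.X ^ m * c m =
          ((u ^ (a - m) : (PowerSeries k)ˣ) : PowerSeries k) - 1) ∧
      (∀ i, (f i : G → PowerSeries k) g = c i) ∧ ∀ i, b i = H1π (Rep.of ρ) (f i) := by
  classical
  have hT : T u a ^ p = 1 := by
    rw [← hρ, ← map_pow, ← hG, pow_card_eq_one', map_one]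
  choose! c hc using fun (m : ℕ) (hm : m ≤ n) => hd.exists_c a hm
  have hc' : ∀ m : ℕ, 1 ≤ m → m ≤ n → PowerSeries.X ^ m * c m =
      ((u ^ (a - m) : (PowerSeries k)ˣ) : PowerSeries k) - 1 := fun m _ h => hc m h
  have hD : ∀ h, ρ g h - h = D u a h := fun h => by rw [hρ, D_apply]
  have hle : ∀ i : {m // m ∈ idx p n a}, 1 ≤ i.1 ∧ i.1 ≤ n := fun i => by
    exact Finset.mem_Icc.1 (Finset.mem_filter.1 i.2).1
  obtain ⟨f, b, hf, hb⟩ := exists_basis ρ hg (fun i : {m // m ∈ idx p n a} => c i)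
    (fun i => by rw [hG, hρ]; exact hd.norm_c a i (hc' _ (hle i).1 (hle i).2))
    (fun coef h hh i => by
      rw [hD] at hh
      have := hd.indep a c hc' (fun m => if hm : m ∈ idx p n a then coef ⟨m, hm⟩ else 0) h
        (hh.trans (by
          rw [← Finset.sum_coe_sort (idx p n a)]
          exact Finset.sum_congr rfl fun j _ => by rw [dif_pos j.2])) i i.2
      rwa [dif_pos i.2] at this)
    (fun y hy => by
      rw [hG, hρ] at hy
      obtain ⟨coef, h, hh⟩ := hd.spanning a hT c hc' hy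
      refine ⟨fun i => coef i, h, ?_⟩
      rw [hD, hh, ← Finset.sum_coe_sort (idx p n a)])
  exact ⟨c, f, b, hc', hf, hb⟩

/-- The count of the basis. -/
theorem card_idx {p : ℕ} (hp : 0 < p) (n : ℕ) (a : ℤ) :
    ((idx p n a).card : ℤ) = n - (a - 1) / (p : ℤ) + (a - 1 - n) / (p : ℤ) := by
  induction n with
  | zero => simp [idx]
  | succ n ih =>
    have hstep : ∀ b : ℤ, b / (p : ℤ) - (b - 1) / (p : ℤ) = if (p : ℤ) ∣ b then 1 else 0 := by
      intro b
      have h1 := Int.emod_nonneg b (Int.natCast_ne_zero.2 hp.ne')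
      have h2 := Int.emod_lt_of_pos b (Int.natCast_pos.2 hp)
      have h3 := Int.emod_add_mul_ediv b p
      by_cases hdvd : (p : ℤ) ∣ b
      · have h0 := Int.emod_eq_zero_of_dvd hdvd
        obtain ⟨e1, -⟩ := (Int.ediv_emod_unique (Int.natCast_pos.2 hp)
          (a := b - 1) (q := b / p - 1) (r := p - 1)).2 ⟨by linarith, by omega, by omega⟩
        rw [if_pos hdvd, e1]; ring
      · have h0 : b % (p : ℤ) ≠ 0 := fun h => hdvd (Int.dvd_of_emod_eq_zero h)
        obtain ⟨e1, -⟩ := (Int.ediv_emod_unique (Int.natCast_pos.2 hp)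
          (a := b - 1) (q := b / p) (r := b % p - 1)).2 ⟨by linarith, by omega, by omega⟩
        rw [if_neg hdvd, e1]; ring
    have hI : Finset.Icc 1 (n + 1) = insert (n + 1) (Finset.Icc 1 n) := by
      ext x; simp only [Finset.mem_Icc, Finset.mem_insert]; omega
    have hnot : n + 1 ∉ idx p n a := fun h => by
      rw [idx, Finset.mem_filter, Finset.mem_Icc] at h; omega
    have hs := hstep (a - 1 - n)
    rw [show a - 1 - (n : ℤ) - 1 = a - 1 - ((n + 1 : ℕ) : ℤ) by push_cast; ring] at hs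
    rw [idx, hI, Finset.filter_insert]
    by_cases h : (p : ℤ) ∣ a - ((n + 1 : ℕ) : ℤ)
    · rw [if_neg (not_not.2 h), ← idx, ih]
      rw [if_pos (by rwa [show a - 1 - (n : ℤ) = a - ((n + 1 : ℕ) : ℤ) by push_cast; ring])] at hs
      push_cast at hs ⊢
      linarith
    · rw [if_pos h, ← idx, Finset.card_insert_of_notMem hnot]
      rw [if_neg (by rwa [show a - 1 - (n : ℤ) = a - ((n + 1 : ℕ) : ℤ) by push_cast; ring])] at hs
      push_cast at hs ⊢
      rw [ih]
      linarith

theorem Dat.mk' {p n : ℕ} [Fact p.Prime] [CharP k p] (hn : 0 < n) (hpn : ¬ p ∣ n)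
    {u : PowerSeries k} (hu1 : PowerSeries.constantCoeff u = 1)
    (hun : u ^ n * (1 + PowerSeries.X ^ n) = 1) (hu : IsUnit u) : Dat p n hu.unit :=
  ⟨Fact.out, inferInstance, hn, hpn, by rw [IsUnit.unit_spec]; exact hu1,
    by rw [IsUnit.unit_spec]; exact hun⟩

end Groth.Agent.ASCover32
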