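import Groth.Agent.ASCover32.Cohom

/-!
# The derivative on the first cohomology
-/

set_option autoImplicit false

noncomputable section

namespace Groth.Agent.ASCover32

open groupCohomology

universe u

variable {k : Type u} [Field k] {p n : ℕ} {u : (PowerSeries k)ˣ}

theorem Dat.X_mul_deriv_u (h : Dat p n u) :
    PowerSeries.X * PowerSeries.derivative k (u : PowerSeries k) =
      (u : PowerSeries k) ^ (n + 1) - (u : PowerSeries k) := by
  have := h.char
  have hn := h.natCast_ne_zero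
  have e0 := congrArg (PowerSeries.derivative k) h.eq
  rw [Derivation.leibniz, Derivation.leibniz_pow, map_add, Derivation.map_one_eq_zero,
    Derivation.leibniz_pow, PowerSeries.derivative_X, zero_add, smul_eq_mul, smul_eq_mul,
    smul_eq_mul, smul_eq_mul, nsmul_eq_mul, nsmul_eq_mul, mul_one] at e0
  obtain ⟨q, hq⟩ := Nat.exists_eq_succ_of_ne_zero h.pos.ne'
  have e1 : (n : PowerSeries k) * (((u : PowerSeries k) ^ (n - 1)) * (1 + PowerSeries.X ^ n) *
      PowerSeries.derivative k (u : PowerSeries k) +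
      (u : PowerSeries k) ^ n * PowerSeries.X ^ (n - 1)) = 0 := by
    linear_combination e0
  have hN : (n : PowerSeries k) ≠ 0 := by
    rw [← map_natCast (PowerSeries.C : k →+* PowerSeries k)]
    exact (map_ne_zero_iff _ PowerSeries.C_injective).2 hn
  have e2 := (mul_eq_zero.1 e1).resolve_left hN
  have e3 := h.eq
  subst hq
  simp only [Nat.succ_sub_one] at e2
  simp only [Nat.succ_eq_add_one] at e2 e3 ⊢
  linear_combination ((u : PowerSeries k) * PowerSeries.X) * e2 -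
    (PowerSeries.X * PowerSeries.derivative k (u : PowerSeries k) + (u : PowerSeries k)) * e3

/-- The derivative of the class `c_m` of functions is `-m` times the class `c_{m+1}` of forms. -/
theorem Dat.deriv_c (h : Dat p n u) {m : ℕ} (hm : 1 ≤ m) {c : PowerSeries k}
    (hc : PowerSeries.X ^ m * c =
      ((u ^ ((0 : ℤ) - m) : (PowerSeries k)ˣ) : PowerSeries k) - 1) :
    PowerSeries.X ^ (m + 1) * PowerSeries.derivative k c =
      -(m : PowerSeries k) *
        (((u ^ ((n : ℤ) + 1 - (m + 1 : ℕ)) : (PowerSeries k)ˣ) : PowerSeries k) - 1) := by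
  have eA : (u : PowerSeries k) ^ m * (PowerSeries.X ^ m * c + 1) = 1 := by
    rw [hc, sub_add_cancel, ← Units.val_pow_eq_pow_val, ← Units.val_mul, ← zpow_natCast, ← zpow_add]
    simp
  have eB : ((u ^ ((n : ℤ) + 1 - (m + 1 : ℕ)) : (PowerSeries k)ˣ) : PowerSeries k) =
      (u : PowerSeries k) ^ n * (PowerSeries.X ^ m * c + 1) := by
    rw [hc, sub_add_cancel, ← Units.val_pow_eq_pow_val, ← Units.val_mul, ← zpow_natCast u n,
      ← zpow_add]
    congr 2
    push_cast
    ring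
  have e0 := congrArg (PowerSeries.derivative k) eA
  rw [Derivation.leibniz, Derivation.leibniz_pow, map_add, Derivation.map_one_eq_zero, add_zero,
    Derivation.leibniz, Derivation.leibniz_pow, PowerSeries.derivative_X, smul_eq_mul, smul_eq_mul,
    smul_eq_mul, smul_eq_mul, smul_eq_mul, smul_eq_mul, nsmul_eq_mul, nsmul_eq_mul, mul_one] at e0
  have eU := h.X_mul_deriv_u
  obtain ⟨m', rfl⟩ : ∃ m', m = m' + 1 := ⟨m - 1, by omega⟩
  rw [Nat.add_sub_cancel] at e0
  rw [eB]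
  refine mul_left_cancel₀ (u.isUnit.ne_zero) ?_
  set A : PowerSeries k := PowerSeries.X ^ (m' + 1) * c + 1 with hA
  set d := PowerSeries.derivative k c
  set du := PowerSeries.derivative k (u : PowerSeries k)
  push_cast at e0 ⊢
  linear_combination ((u : PowerSeries k) * PowerSeries.X * A) * e0 -
    ((u : PowerSeries k) * PowerSeries.X ^ (m' + 2) * d +
      (u : PowerSeries k) * (m' + 1) * PowerSeries.X ^ (m' + 1) * c +
      (m' + 1) * A * PowerSeries.X * du) * eA - ((m' + 1) * A) * eU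

variable {G : Type u} [Group G] [Finite G] {g : G}

omit [Finite G] in
theorem exists_map_H1π {A B : Rep k G} (φ : A ⟶ B) (x : cocycles₁ A) :
    ∃ y : cocycles₁ B, (∀ z, y.1 z = φ.hom (x.1 z)) ∧
      ((groupCohomology.functor k G 1).map φ).hom (H1π A x) = H1π B y :=
  ⟨mapCocycles₁ (A := A) (B := B) (MonoidHom.id G) φ x, fun _ => rfl,
    congrArg (fun m => m.hom x) (H1π_comp_map (A := A) (B := B) (f := MonoidHom.id G) (φ := φ))⟩

theorem Dat.deriv_H1 (h : Dat p n u) (hG : Nat.card G = p) (hg : ∀ x : G, x ∈ Subgroup.zpowers g)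
    (ρ₀ ρ₁ : Representation k G (PowerSeries k)) (h₀ : ρ₀ g = T u 0) (h₁ : ρ₁ g = T u ((n : ℤ) + 1))
    (φ : Rep.of ρ₀ ⟶ Rep.of ρ₁) (hφ : ∀ x : PowerSeries k, φ.hom x = PowerSeries.derivative k x) :
    Module.Finite k (LinearMap.range ((groupCohomology.functor k G 1).map φ).hom) ∧
      Module.finrank k (LinearMap.range ((groupCohomology.functor k G 1).map φ).hom) =
        (idx p (n - 1) 0 ∩ idx p (n - 1) n).card := by
  classical
  have := h.char
  obtain ⟨c₀, f₀, b₀, hc₀, hf₀, hb₀⟩ := h.exists_basis_H1 hG hg ρ₀ 0 h₀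
  obtain ⟨c₁, f₁, b₁, hc₁, hf₁, hb₁⟩ := h.exists_basis_H1 hG hg ρ₁ ((n : ℤ) + 1) h₁
  set F : H1 (Rep.of ρ₀) →ₗ[k] H1 (Rep.of ρ₁) :=
    ((groupCohomology.functor k G 1).map φ).hom with hF
  let S := idx p (n - 1) 0 ∩ idx p (n - 1) n
  have hS : ∀ m, m ∈ S ↔ m ∈ idx p n 0 ∧ m + 1 ∈ idx p n ((n : ℤ) + 1) := by
    intro m
    simp only [S, idx, Finset.mem_inter, Finset.mem_filter, Finset.mem_Icc]
    rw [show (n : ℤ) + 1 - ((m + 1 : ℕ) : ℤ) = (n : ℤ) - m by push_cast; ring]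
    constructor
    · rintro ⟨⟨hm, a⟩, -, b⟩
      exact ⟨⟨⟨hm.1, by omega⟩, a⟩, ⟨by omega, by omega⟩, b⟩
    · rintro ⟨⟨hm, a⟩, hm', b⟩
      exact ⟨⟨⟨hm.1, by omega⟩, a⟩, ⟨hm.1, by omega⟩, b⟩
  let v : {m // m ∈ S} → H1 (Rep.of ρ₁) := fun m => b₁ ⟨m.1 + 1, ((hS m.1).1 m.2).2⟩
  have hv : LinearIndependent k v :=
    b₁.linearIndependent.comp _ fun m m' e => by
      rw [Subtype.mk.injEq] at e
      exact Subtype.ext (Nat.succ_injective e)
  -- the image of a basis vector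
  have himg : ∀ i : {m // m ∈ idx p n 0},
      (∀ hi : i.1 ∈ S, F (b₀ i) = (-(i.1 : k)) • v ⟨i.1, hi⟩) ∧ (i.1 ∉ S → F (b₀ i) = 0) := by
    intro i
    obtain ⟨hi1, hid⟩ := Finset.mem_filter.1 i.2
    rw [Finset.mem_Icc] at hi1
    obtain ⟨y, hy, hy'⟩ := exists_map_H1π φ (f₀ i)
    have hFb : F (b₀ i) = H1π (Rep.of ρ₁) y := by rw [hb₀]; exact hy'
    have hval : (y : G → PowerSeries k) g = PowerSeries.derivative k (c₀ i) := by
      rw [← hf₀ i, ← hφ]
      exact hy g
    have hder := h.deriv_c hi1.1 (hc₀ i hi1.1 hi1.2)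
    by_cases hlt : i.1 + 1 ≤ n
    · have hc : PowerSeries.derivative k (c₀ i) = (-(i.1 : k)) • c₁ (i.1 + 1) := by
        refine mul_left_cancel₀ (pow_ne_zero (i.1 + 1) PowerSeries.X_ne_zero) ?_
        rw [hder, PowerSeries.smul_eq_C_mul, map_neg, map_natCast, mul_left_comm,
          hc₁ _ (Nat.succ_pos _) hlt]
      refine ⟨fun hi => ?_, fun hi => ?_⟩
      · show F (b₀ i) = (-(i.1 : k)) • b₁ ⟨i.1 + 1, ((hS i.1).1 hi).2⟩
        rw [hFb, hb₁, ← map_smul]
        congr 1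
        refine cocycle_ext ρ₁ hg ?_
        rw [hval, hc]
        show _ = (-(i.1 : k)) • (f₁ _ : G → PowerSeries k) g
        rw [hf₁]
      · rw [hFb, H1π_eq_zero ρ₁ hg]
        have hd : (p : ℤ) ∣ (n : ℤ) + 1 - (i.1 + 1 : ℕ) := by
          by_contra hd
          exact hi ((hS _).2 ⟨i.2, Finset.mem_filter.2
            ⟨Finset.mem_Icc.2 ⟨Nat.succ_pos _, hlt⟩, hd⟩⟩)
        obtain ⟨y, hy⟩ := h.exists_primitive _ hlt hd (hc₁ _ (Nat.succ_pos _) hlt)
        refine ⟨(-(i.1 : k)) • y, ?_⟩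
        rw [hval, hc, h₁, map_smul, ← smul_sub, ← D_apply, hy]
    · have hz : PowerSeries.derivative k (c₀ i) = 0 := by
        refine (mul_eq_zero.1 ?_).resolve_left (pow_ne_zero (i.1 + 1) PowerSeries.X_ne_zero)
        rw [hder, show (n : ℤ) + 1 - (i.1 + 1 : ℕ) = 0 by push_cast; omega]
        simp
      refine ⟨fun hi => absurd ((hS _).1 hi).2 (fun hmem => hlt ?_), fun _ => ?_⟩
      · exact (Finset.mem_Icc.1 (Finset.mem_filter.1 hmem).1).2
      · rw [hFb, H1π_eq_zero ρ₁ hg]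
        exact ⟨0, by rw [hval, hz]; simp⟩
  have hrange : LinearMap.range F = Submodule.span k (Set.range v) := by
    rw [LinearMap.range_eq_map, ← b₀.span_eq, Submodule.map_span]
    refine le_antisymm (Submodule.span_le.2 ?_) (Submodule.span_le.2 ?_)
    · rintro _ ⟨_, ⟨i, rfl⟩, rfl⟩
      by_cases hi : i.1 ∈ S
      · rw [(himg i).1 hi]
        exact Submodule.smul_mem _ _ (Submodule.subset_span ⟨_, rfl⟩)
      · rw [(himg i).2 hi]; exact Submodule.zero_mem _
    · rintro _ ⟨m, rfl⟩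
      have hm := ((hS m.1).1 m.2).1
      have h0 : (-(m.1 : k)) ≠ 0 := by
        rw [neg_ne_zero, Ne, CharP.cast_eq_zero_iff k p]
        intro hd
        apply (Finset.mem_filter.1 hm).2
        rw [zero_sub, dvd_neg]
        exact Int.natCast_dvd_natCast.2 hd
      have := (himg ⟨m.1, hm⟩).1 m.2
      rw [← inv_smul_smul₀ h0 (v m), ← this]
      exact Submodule.smul_mem _ _ (Submodule.subset_span ⟨_, ⟨_, rfl⟩, rfl⟩)
  change Module.Finite k (LinearMap.range F) ∧ Module.finrank k (LinearMap.range F) = S.card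
  rw [hrange]
  refine ⟨Module.Finite.span_of_finite k (Set.finite_range v), ?_⟩
  rw [finrank_span_eq_card hv, Fintype.card_coe]

theorem card_deriv {p n : ℕ} (hp : 0 < p) (hn : 0 < n) (hpn : ¬ p ∣ n) :
    ((idx p (n - 1) 0 ∩ idx p (n - 1) n).card : ℤ) =
      ((n + 1) * (p - 1) : ℤ) / p - 1 - (n - 1 : ℤ) / p := by
  have hcast : ((n - 1 : ℕ) : ℤ) = (n : ℤ) - 1 := by omega
  have hu : idx p (n - 1) 0 ∪ idx p (n - 1) n = Finset.Icc 1 (n - 1) := by
    ext m
    simp only [idx, Finset.mem_union, Finset.mem_filter]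
    refine ⟨fun h => h.elim And.left And.left, fun h => ?_⟩
    by_contra hne
    push Not at hne
    have := dvd_sub (hne.2 h) (hne.1 h)
    rw [show (n : ℤ) - m - (0 - m) = (n : ℤ) by ring] at this
    exact hpn (Int.natCast_dvd_natCast.1 this)
  have e := congrArg (Nat.cast (R := ℤ)) (Finset.card_union_add_card_inter (idx p (n - 1) 0)
    (idx p (n - 1) n))
  have hneg : (-1 : ℤ) / (p : ℤ) = -1 :=
    ((Int.ediv_emod_unique (Int.natCast_pos.2 hp) (a := -1) (q := -1) (r := p - 1)).2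
      ⟨by ring, by omega, by omega⟩).1
  rw [hu, Nat.card_Icc, Nat.add_sub_cancel] at e
  push_cast at e
  rw [card_idx hp, card_idx hp, hcast,
    show (0 : ℤ) - 1 = -1 by norm_num,
    show (-1 : ℤ) - ((n : ℤ) - 1) = -(n : ℤ) by ring,
    show (n : ℤ) - 1 - ((n : ℤ) - 1) = 0 by ring, Int.zero_ediv, hneg] at e
  have h1 : idx p 1 (1 - (n : ℤ)) = {1} := by
    rw [idx, Finset.Icc_self, Finset.filter_singleton, if_pos]
    rw [show (1 : ℤ) - n - ((1 : ℕ) : ℤ) = -(n : ℤ) by push_cast; ring, dvd_neg]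
    exact fun h => hpn (Int.natCast_dvd_natCast.1 h)
  have e2 := card_idx hp 1 (1 - (n : ℤ))
  rw [h1, Finset.card_singleton, show (1 : ℤ) - n - 1 = -(n : ℤ) by ring,
    show -(n : ℤ) - ((1 : ℕ) : ℤ) = -((n : ℤ) + 1) by push_cast; ring] at e2
  push_cast at e2
  have e3 : ((n : ℤ) + 1) * ((p : ℤ) - 1) / p = -((n : ℤ) + 1) / p + (n + 1) := by
    rw [show ((n : ℤ) + 1) * ((p : ℤ) - 1) = -((n : ℤ) + 1) + ((n : ℤ) + 1) * p by ring,
      Int.add_mul_ediv_right _ _ (Int.natCast_ne_zero.2 hp.ne')]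
  rw [e3]
  linarith

end Groth.Agent.ASCover32
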